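import Cfsg.Agent.H800.Wf.HNMid
import Cfsg.Agent.H800.Wf.Congr
import Cfsg.Agent.CpAutHN.Main
import Cfsg.Agent.Involutions.BaerSuzuki

/-!
# HN, `p = 3` (helper800, for S3826)

* `exists_range` : the 3-elements of `O(C(X3))` are conjugate into `A12` (orbit lemma);
* `exists_outside` : every class of elements of order 3 has a member in `C(X3) - O(C(X3))`;
* `irow` : `IRow 3 HN`; `arow_hn` : `ARow 3 K`, `K ≅ HN`.
-/

set_option autoImplicit false
set_option maxRecDepth 100000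

namespace Cfsg.Agent.H800.Wf.HN

open Subgroup Cfsg
open Cfsg.Agent
open Cfsg.Agent.CpAutHN.Alt
open Cfsg.Agent.CpAutHN.Tr
open Cfsg.Agent.CpAutHN.Pairs
open Cfsg.Agent.H569.HNThree
open Cfsg.Agent.H800.Wf.HNMid
open Equiv.Perm (mem_alternatingGroup)

/-! ### elements of `A12` -/

theorem x1_comm : x1 * x3 = x3 * x1 := by decide +kernel
theorem sg_comm : sg * x3 = x3 * sg := by decide +kernel

/-- `(9 10 11)` in `C(X3)` -/
noncomputable def u1 : MM := mk x1 x1_mem x1_comm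
/-- `(0 3 6)(1 4 7)(2 5 8)` in `C(X3)` -/
noncomputable def u2 : MM := mk sg sg_mem sg_comm

theorem u1_mem : u1 ∈ QQ := mk_core _ _ _ (by decide +kernel) (by decide +kernel)
theorem u2_mem : u2 ∈ QQ := mk_core _ _ _ (by decide +kernel) (by decide +kernel)

theorem order_u1 : orderOf u1 = 3 := by rw [← Subgroup.orderOf_coe]; exact order_X1
theorem order_u2 : orderOf u2 = 3 := by
  rw [← Subgroup.orderOf_coe]; exact orderOf_three sg_mem (by decide +kernel) (by decide +kernel)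

theorem x1_ne (i : ℕ) (hi : i < 3) : x1 ≠ x3 ^ i := by interval_cases i <;> decide +kernel
theorem sg_ne (i : ℕ) (hi : i < 3) : sg ≠ x3 ^ i := by interval_cases i <;> decide +kernel

/-- the conjugating elements -/
def cj (i : ℕ) : Equiv.Perm (Fin 12) :=
  if i = 0 then cy [1, 3] * cy [2, 6] * cy [5, 7] * cy [9, 10] else
  if i = 1 then cy [1, 4, 5, 6, 2, 8, 7, 3] * cy [9, 10] else
  if i = 2 then cy [1, 5, 8, 6, 2, 7, 4, 3] * cy [9, 10] else cy [6, 9, 7, 10] * cy [8, 11]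

theorem cj_mem (i : ℕ) (hi : i < 4) : cj i ∈ alternatingGroup (Fin 12) := by
  rw [mem_alternatingGroup]
  interval_cases i <;> decide +kernel

theorem cj_comm (i : ℕ) (hi : i < 3) : cj i * x3 = sg * x3 ^ i * cj i := by
  interval_cases i <;> decide +kernel

theorem cj_three : cj 3 * x3 = ya * x1 * cj 3 := by decide +kernel

/-- `(0 4 7 10 1 3 6 9)(2 5 8 11)` -/
def ck : Equiv.Perm (Fin 12) := cy [0, 4, 7, 10, 1, 3, 6, 9] * cy [2, 5, 8, 11]
theorem ck_mem : ck ∈ alternatingGroup (Fin 12) := by rw [mem_alternatingGroup]; decide +kernel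
theorem ck_comm : ck * x1 = ya⁻¹ * y3⁻¹ * ck := by decide +kernel

theorem isConj_of {a b c : A12} (h : c * a = b * c) : IsConj (Φ a) (Φ b) := by
  refine isConj_iff.2 ⟨Φ c, ?_⟩
  rw [mul_inv_eq_iff_eq_mul, ← map_mul, h, map_mul]

theorem isConj_sg (i : ℕ) (hi : i < 3) : IsConj X3 ((u2 * XX ^ i : MM) : G) := by
  have h1 : ((u2 * XX ^ i : MM) : G) = Φ (⟨sg, sg_mem⟩ * ⟨x3, x3_mem⟩ ^ i) := by
    rw [map_mul, map_pow]; rfl
  rw [h1]
  exact isConj_of (a := ⟨x3, x3_mem⟩) (c := ⟨cj i, cj_mem i (by omega)⟩) (Subtype.ext (cj_comm i hi))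

theorem mem_Z_iff {z : MM} (hz : z ∈ zpowers XX) : ∃ i < 3, z = XX ^ i := by
  obtain ⟨i, hi⟩ := (isOfFinOrder_of_finite XX).mem_powers_iff_mem_zpowers.2 hz
  refine ⟨i % 3, Nat.mod_lt _ (by norm_num), ?_⟩
  rw [← hi, ← order_XX]
  exact (pow_mod_orderOf XX i).symm

theorem XX_cube : XX ^ 3 = 1 := by rw [← order_XX, pow_orderOf_eq_one]

theorem cube_Z {z : MM} (hz : z ∈ zpowers XX) : z ^ 3 = 1 := by
  obtain ⟨i, -, rfl⟩ := mem_Z_iff hz
  rw [← pow_mul, mul_comm, pow_mul, XX_cube, one_pow]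

theorem comm_Z {z : MM} (hz : z ∈ zpowers XX) (m : MM) : m * z = z * m := by
  obtain ⟨i, -, rfl⟩ := mem_Z_iff hz
  exact ((show Commute m XX from comm_XX m).pow_right i).eq

/-! ### the quotient -/

/-- `C(X3)/⟨X3⟩` -/
abbrev MB : Type := MM ⧸ (zpowers XX)

/-- the projection -/
noncomputable def pr : MM →* MB := QuotientGroup.mk' (zpowers XX)

theorem pr_surj : Function.Surjective pr := QuotientGroup.mk'_surjective _

theorem pr_one {m : MM} : pr m = 1 ↔ m ∈ zpowers XX := QuotientGroup.eq_one_iff m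

theorem pr_eq {m n : MM} (h : pr m = pr n) : ∃ i < 3, m = n * XX ^ i := by
  have h1 : pr (n⁻¹ * m) = 1 := by rw [map_mul, map_inv, h, inv_mul_cancel]
  obtain ⟨i, hi, h2⟩ := mem_Z_iff (pr_one.1 h1)
  exact ⟨i, hi, by rw [← h2, mul_inv_cancel_left]⟩

theorem QQ_ker : pr.ker ≤ QQ := by
  intro m hm
  obtain ⟨i, -, rfl⟩ := mem_Z_iff (pr_one.1 hm)
  exact pow_mem XX_mem.1 i

theorem card_map : Nat.card (QQ.map pr) * 3 = Nat.card QQ := by
  have h1 := relIndex_mul_relIndex ⊥ pr.ker QQ bot_le QQ_ker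
  rw [relIndex_bot_left, relIndex_bot_left, relIndex_ker, show pr.ker = zpowers XX from QuotientGroup.ker_mk' _,
    Nat.card_zpowers, order_XX] at h1
  rw [mul_comm]; exact h1

theorem card_MB : 3 * Nat.card MB = Nat.card MM := by
  have h1 := (zpowers XX).card_mul_index
  rw [Nat.card_zpowers, order_XX] at h1
  exact h1

theorem no_inv (i : MB) (hi : orderOf i = 2) (t : MB) (ht : t ∈ QQ.map pr) (h3 : ∃ k, t ^ 3 ^ k = 1)
    (hit : i * t = t * i) : t = 1 := by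
  obtain ⟨i₀, rfl⟩ := pr_surj i
  obtain ⟨t₀, ht₀, rfl⟩ := ht
  obtain ⟨k, hk⟩ := h3
  -- the involution
  have hi1 : pr (i₀ ^ 2) = 1 := by rw [map_pow, ← hi, pow_orderOf_eq_one]
  have hpi : pr (i₀ ^ 3) = pr i₀ := by rw [pow_succ, map_mul, hi1, one_mul]
  have hi2 : (i₀ ^ 3) ^ 2 = 1 := by rw [← pow_mul, mul_comm, pow_mul, cube_Z (pr_one.1 hi1)]
  have hi3 : orderOf (i₀ ^ 3) = 2 := by
    refine orderOf_eq_prime hi2 ?_
    intro h
    rw [h, map_one] at hpi
    rw [← hpi, orderOf_one] at hi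
    norm_num at hi
  rw [← hpi] at hit
  generalize i₀ ^ 3 = j at hi2 hi3 hit
  have hjj : j * j = 1 := by rw [← pow_two]; exact hi2
  -- the 3-element
  have ht3 : t₀ ^ 3 ^ (k + 1) = 1 := by
    have h1 : pr (t₀ ^ 3 ^ k) = 1 := by rw [map_pow]; exact hk
    rw [pow_succ, pow_mul, cube_Z (pr_one.1 h1)]
  -- they commute
  rw [← map_mul, ← map_mul] at hit
  obtain ⟨a, ha, h1⟩ := pr_eq hit
  have hz : XX ^ a ∈ zpowers XX := pow_mem (mem_zpowers XX) a
  have hc := comm_Z hz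
  have hz3 := cube_Z hz
  generalize XX ^ a = z at h1 hc hz3
  have h2 : z * z = 1 := by
    have h4 : t₀ = t₀ * (z * z) := by
      calc t₀ = j * (j * t₀) := by rw [← mul_assoc, hjj, one_mul]
        _ = j * (t₀ * j * z) := by rw [h1]
        _ = j * t₀ * j * z := by group
        _ = t₀ * j * z * j * z := by rw [h1]
        _ = t₀ * j * (z * j) * z := by group
        _ = t₀ * (j * j) * (z * z) := by rw [← hc j]; group
        _ = t₀ * (z * z) := by rw [hjj, mul_one]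
    exact mul_eq_left.1 h4.symm
  have h4 : z = 1 := by
    rw [pow_succ, pow_two, h2, one_mul] at hz3
    exact hz3
  rw [h4, mul_one] at h1
  exact pr_one.2 (mem_Z' ht₀ ⟨k + 1, ht3⟩ hi3 h1)

theorem pel_of_order {M : Type*} [Group M] {x : M} (h : orderOf x = 3) : ∃ k, x ^ 3 ^ k = 1 :=
  ⟨1, by rw [pow_one, ← h, pow_orderOf_eq_one]⟩

theorem XX_range : (XX : G) ∈ Φ.range := ⟨⟨x3, x3_mem⟩, rfl⟩

theorem mem_range_mul {u : MM} (hu : (u : G) ∈ Φ.range) (i : ℕ) : ((u * XX ^ i : MM) : G) ∈ Φ.range := by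
  rw [Subgroup.coe_mul, Subgroup.coe_pow]
  exact mul_mem hu (pow_mem XX_range i)

theorem u1_range : (u1 : G) ∈ Φ.range := ⟨_, rfl⟩
theorem u2_range : (u2 : G) ∈ Φ.range := ⟨_, rfl⟩

theorem pr_u1 : pr u1 ≠ 1 := by
  intro h
  obtain ⟨i, hi, h1⟩ := mem_Z_iff (pr_one.1 h)
  have h2 : Φ ⟨x1, x1_mem⟩ = Φ (⟨x3, x3_mem⟩ ^ i) := by rw [map_pow]; exact congrArg Subtype.val h1
  exact x1_ne i hi (congrArg Subtype.val (Φ_inj h2))

theorem pr_u2 : pr u2 ≠ 1 := by
  intro h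
  obtain ⟨i, hi, h1⟩ := mem_Z_iff (pr_one.1 h)
  have h2 : Φ ⟨sg, sg_mem⟩ = Φ (⟨x3, x3_mem⟩ ^ i) := by rw [map_pow]; exact congrArg Subtype.val h1
  exact sg_ne i hi (congrArg Subtype.val (Φ_inj h2))

theorem not_conj_pr : ¬ IsConj (pr u1) (pr u2) := by
  intro h
  obtain ⟨g, hg⟩ := isConj_iff.1 h
  obtain ⟨m, rfl⟩ := pr_surj g
  rw [← map_mul, ← map_inv, ← map_mul] at hg
  obtain ⟨i, hi, h1⟩ := pr_eq hg
  apply not_conj
  have h2 : IsConj X1 ((u2 * XX ^ i : MM) : G) := isConj_iff.2 ⟨(m : G), congrArg Subtype.val h1⟩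
  exact h2.trans (isConj_sg i hi).symm

/-- **The 3-elements of the core are conjugate into `A12`.** -/
theorem exists_range {t : MM} (ht : t ∈ QQ) (h3 : ∃ k, t ^ 3 ^ k = 1) : ∃ m : MM, ((m * t * m⁻¹ : MM) : G) ∈ Φ.range := by
  by_cases ht1 : pr t = 1
  · obtain ⟨i, -, rfl⟩ := mem_Z_iff (pr_one.1 ht1)
    refine ⟨1, ?_⟩
    rw [one_mul, inv_one, mul_one, Subgroup.coe_pow]
    exact pow_mem XX_range i
  have hn : (QQ.map pr).Normal := normal_QQ.map pr pr_surj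
  have hcard := card_map
  have hodd : Odd (Nat.card (QQ.map pr)) := Odd.of_dvd_nat odd_QQ ⟨3, hcard.symm⟩
  have hfac : (Nat.card (QQ.map pr)).factorization 3 = 4 := by
    have h1 := fac_QQ
    rw [← hcard, Nat.factorization_mul Nat.card_pos.ne' (by norm_num), Finsupp.add_apply,
      Nat.prime_three.factorization_self] at h1
    omega
  have h8 : 8 ∣ Nat.card MB := by
    have h1 := H555.Hall.HNThree.eight_dvd_T1 order_X3 t1_x3
    rw [show centralizer ({X3} : Set G) = MM from rfl, ← card_MB] at h1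
    exact (show Nat.Coprime 8 3 by norm_num).dvd_of_dvd_mul_left h1
  obtain ⟨f₁, f₂, h1, h1x, h2, h2x, h12⟩ := H755.CC.HNThree.exists_fives order_X3 t1_x3
  let F₁ : MM := ⟨f₁, mem_centralizer_singleton_iff.2 h1x⟩
  let F₂ : MM := ⟨f₂, mem_centralizer_singleton_iff.2 h2x⟩
  have e1 : (pr F₁) ^ 5 = 1 := by rw [← map_pow, show F₁ ^ 5 = 1 from Subtype.ext h1, map_one]
  have e2 : (pr F₂) ^ 5 = 1 := by rw [← map_pow, show F₂ ^ 5 = 1 from Subtype.ext h2, map_one]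
  have e12 : ¬ Odd (orderOf (pr F₁ * pr F₂)) := by
    intro h
    apply h12
    have h5 : pr ((F₁ * F₂) ^ orderOf (pr F₁ * pr F₂)) = 1 := by rw [map_pow, map_mul, pow_orderOf_eq_one]
    have h6 := cube_Z (pr_one.1 h5)
    rw [← pow_mul] at h6
    have h7 : (f₁ * f₂) ^ (orderOf (pr F₁ * pr F₂) * 3) = 1 := congrArg Subtype.val h6
    exact Odd.of_dvd_nat (h.mul (by decide)) (orderOf_dvd_of_pow_eq_one h7)
  have hmap : ∀ {x : MM}, (∃ k, x ^ 3 ^ k = 1) → ∃ k, (pr x) ^ 3 ^ k = 1 := by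
    rintro x ⟨k, hk⟩
    exact ⟨k, by rw [← map_pow, hk, map_one]⟩
  rcases Orb.main (QQ.map pr) hodd hfac no_inv h8 e1 e2 e12 (y := pr u1) (w := pr u2) (t := pr t) ⟨_, u1_mem, rfl⟩
    ⟨_, u2_mem, rfl⟩ ⟨_, ht, rfl⟩ (hmap (pel_of_order order_u1)) (hmap (pel_of_order order_u2)) (hmap h3) pr_u1 pr_u2 ht1
    not_conj_pr with h | h
  · obtain ⟨g, hg⟩ := isConj_iff.1 h.symm
    obtain ⟨m, rfl⟩ := pr_surj g
    rw [← map_mul, ← map_inv, ← map_mul] at hg
    obtain ⟨i, -, hi⟩ := pr_eq hg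
    exact ⟨m, by rw [hi]; exact mem_range_mul u1_range i⟩
  · obtain ⟨g, hg⟩ := isConj_iff.1 h.symm
    obtain ⟨m, rfl⟩ := pr_surj g
    rw [← map_mul, ← map_inv, ← map_mul] at hg
    obtain ⟨i, -, hi⟩ := pr_eq hg
    exact ⟨m, by rw [hi]; exact mem_range_mul u2_range i⟩

/-- the elements of order 3 of the core are conjugate to `X1` or `X3` -/
theorem conj_of_core {t : MM} (ht : t ∈ QQ) (h3 : orderOf t = 3) : ∃ c : G, c * t * c⁻¹ = X1 ∨ c * t * c⁻¹ = X3 := by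
  obtain ⟨m, hm⟩ := exists_range ht (pel_of_order h3)
  have h4 : orderOf ((m * t * m⁻¹ : MM) : G) = 3 := by
    rw [Subgroup.orderOf_coe, ← h3]
    exact MulEquiv.orderOf_eq (MulAut.conj m) t
  obtain ⟨s, hs, hc⟩ := H755.CC.HNThree.exists_s h4 hm
  have hs2 : orderOf s = 2 := by
    obtain ⟨c, hc⟩ := isConj_iff.1 hs.symm
    rw [← hc]
    have h1 := MulEquiv.orderOf_eq (MulAut.conj c) Cfsg.Agent.HN.XWords.W0
    rw [MulAut.conj_apply] at h1
    rw [h1]
    exact orderOf_eq_prime (by rw [pow_two]; exact Cfsg.Agent.HN.XWords.W0_sq) Cfsg.Agent.KFacts.HN.W0_ne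
  obtain ⟨c, hc⟩ := conj_of_comm (pow_three_of_order h4) hs2 hc (by
    intro h
    rw [h, orderOf_one] at h4
    norm_num at h4)
  refine ⟨c * m, ?_⟩
  have e : c * (m : G) * t * (c * m)⁻¹ = c * ((m * t * m⁻¹ : MM) : G) * c⁻¹ := by
    rw [Subgroup.coe_mul, Subgroup.coe_mul, Subgroup.coe_inv]; group
  rw [e]
  exact hc

/-! ### elements outside the core -/

theorem y3_comm : y3 * x3 = x3 * y3 := by decide +kernel

/-- **Every class of elements of order 3 has a member in `C(X3) - O(C(X3))`.** -/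
theorem exists_outside {C : Set G} (hC : ∀ g : G, ∀ c ∈ C, g * c * g⁻¹ ∈ C) {c : G} (hc : c ∈ C) (h3 : orderOf c = 3) :
    ∃ m : MM, (m : G) ∈ C ∧ m ∉ QQ ∧ orderOf m = 3 := by
  have : Fact (Nat.Prime 3) := ⟨Nat.prime_three⟩
  obtain ⟨g, hg⟩ := H749.exists_conj_mem MM index_X3 (pow_three_of_order h3)
  have hgC := hC g c hc
  have hg3 : orderOf (g * c * g⁻¹) = 3 := by rw [← h3]; exact MulEquiv.orderOf_eq (MulAut.conj g) c
  by_cases hQ : (⟨_, hg⟩ : MM) ∈ QQ
  swap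
  · exact ⟨⟨_, hg⟩, hgC, hQ, by rw [← Subgroup.orderOf_coe]; exact hg3⟩
  obtain ⟨k, hk⟩ := conj_of_core hQ (by rw [← Subgroup.orderOf_coe]; exact hg3)
  have hkC := hC k _ hgC
  change k * (g * c * g⁻¹) * k⁻¹ = X1 ∨ k * (g * c * g⁻¹) * k⁻¹ = X3 at hk
  rcases hk with hk | hk
  · -- the class of `X1`
    rw [hk] at hkC
    have h1 : IsConj (Φ ⟨x1, x1_mem⟩) (Φ (⟨ya, ya_mem⟩⁻¹ * ⟨y3, y3_mem⟩⁻¹)) :=
      isConj_of (c := ⟨ck, ck_mem⟩) (Subtype.ext ck_comm)
    obtain ⟨a, ha⟩ := isConj_iff.1 h1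
    let v : MM := yy⁻¹ * (mk y3 y3_mem y3_comm)⁻¹
    have hv : (v : G) = a * X1 * a⁻¹ := by
      change _ = a * Φ ⟨x1, x1_mem⟩ * a⁻¹
      rw [ha, map_mul, map_inv, map_inv]
      rfl
    refine ⟨v, by rw [hv]; exact hC a _ hkC, ?_, ?_⟩
    · intro h
      have h4 : mk y3 y3_mem y3_comm ∈ QQ := mk_core _ _ _ (by decide +kernel) (by decide +kernel)
      have h5 : yy⁻¹ ∈ QQ := (mul_mem_cancel_right (inv_mem h4)).1 h
      exact yy_not_mem (inv_mem_iff.1 h5)
    · rw [← Subgroup.orderOf_coe, hv, ← order_X1]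
      exact MulEquiv.orderOf_eq (MulAut.conj a) X1
  · -- the class of `X3`
    rw [hk] at hkC
    have h1 : IsConj (Φ ⟨x3, x3_mem⟩) (Φ (⟨ya, ya_mem⟩ * ⟨x1, x1_mem⟩)) :=
      isConj_of (c := ⟨cj 3, cj_mem 3 (by norm_num)⟩) (Subtype.ext cj_three)
    obtain ⟨a, ha⟩ := isConj_iff.1 h1
    let v : MM := yy * u1
    have hv : (v : G) = a * X3 * a⁻¹ := by
      change _ = a * Φ ⟨x3, x3_mem⟩ * a⁻¹
      rw [ha, map_mul]
      rfl
    refine ⟨v, by rw [hv]; exact hC a _ hkC, ?_, ?_⟩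
    · intro h
      exact yy_not_mem ((mul_mem_cancel_right u1_mem).1 h)
    · rw [← Subgroup.orderOf_coe, hv, ← order_X3]
      exact MulEquiv.orderOf_eq (MulAut.conj a) X3

/-! ### the row -/

theorem three_subgroup {Y : Type*} [Group Y] [Finite Y] (h : (Nat.card Y).factorization 3 = 1) {c d : Y}
    (hc : orderOf c = 3) (hd : orderOf d = 3) : ∃ g : Y, g * c * g⁻¹ ∈ zpowers d := by
  have : Fact (Nat.Prime 3) := ⟨Nat.prime_three⟩
  let P : Sylow 3 Y := Sylow.ofCard (zpowers c) (by rw [Nat.card_zpowers, hc, h, pow_one])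
  let R : Sylow 3 Y := Sylow.ofCard (zpowers d) (by rw [Nat.card_zpowers, hd, h, pow_one])
  obtain ⟨g, hg⟩ := MulAction.exists_smul_eq Y P R
  refine ⟨g, ?_⟩
  have h1 : g * c * g⁻¹ ∈ (R : Subgroup Y) := by
    rw [← hg]
    exact Subgroup.smul_mem_pointwise_smul c (MulAut.conj g) _ (mem_zpowers c)
  exact h1

/-- no non-trivial normal 3-subgroup modulo the core -/
theorem core_quot {N : Subgroup (MM ⧸ QQ)} [N.Normal] (hN : IsPGroup 3 N) : N = ⊥ := by
  have hn : (N.comap (QuotientGroup.mk' QQ)).Normal := inferInstance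
  have hle : N.comap (QuotientGroup.mk' QQ) ≤ QQ := by
    refine Lib.Cores.le_pPrimeCore (p := 2) hn (Nat.coprime_two_right.2 ?_)
    have h1 := relIndex_mul_relIndex ⊥ QQ (N.comap (QuotientGroup.mk' QQ)) bot_le (by
      intro x hx
      rw [mem_comap, QuotientGroup.mk'_apply, (QuotientGroup.eq_one_iff x).2 hx]
      exact one_mem _)
    have h2 := relIndex_ker (N.comap (QuotientGroup.mk' QQ)) (QuotientGroup.mk' QQ)
    rw [QuotientGroup.ker_mk', map_comap_eq_self_of_surjective (QuotientGroup.mk'_surjective QQ)] at h2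
    rw [relIndex_bot_left, relIndex_bot_left, h2] at h1
    rw [← h1]
    obtain ⟨n, hn⟩ := IsPGroup.iff_card.1 hN
    rw [hn]
    exact odd_QQ.mul (Odd.pow (by decide))
  rw [eq_bot_iff]
  intro x hx
  obtain ⟨m, rfl⟩ := QuotientGroup.mk'_surjective QQ x
  rw [mem_bot, QuotientGroup.mk'_apply, QuotientGroup.eq_one_iff]
  exact hle hx

theorem MM_ne_top : (MM : Subgroup G) ≠ ⊤ := by
  refine H755.CC.HNB.centralizer_ne_top ?_
  intro h
  have h1 := order_X3
  rw [h, orderOf_one] at h1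
  norm_num at h1

/-- **`IRow 3 HN`** -/
theorem irow : H533.Wf.IRow 3 G := by
  intro C D h
  have : Fact (Nat.Prime 3) := ⟨Nat.prime_three⟩
  obtain ⟨c₀, hc₀⟩ := h.neC
  obtain ⟨d₀, hd₀⟩ := h.neD
  obtain ⟨c, hc, hcQ, hc3⟩ := exists_outside h.conjC hc₀ (h.ordC c₀ hc₀)
  obtain ⟨d, hd, hdQ, hd3⟩ := exists_outside h.conjD hd₀ (h.ordD d₀ hd₀)
  -- the pairs commute modulo the core
  have hcore : pCore 3 MM ≤ QQ := by
    refine Lib.Cores.le_pPrimeCore (p := 2) (Lib.Cores.pCore_normal 3) (Nat.coprime_two_right.2 ?_)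
    obtain ⟨n, hn⟩ := IsPGroup.iff_card.1 (Lib.Cores.pCore_isPGroup (G := MM) 3)
    rw [hn]
    exact Odd.pow (by decide)
  set π := QuotientGroup.mk' QQ with hπ
  have hcomm : ∀ c' d' : MM, (c' : G) ∈ C → (d' : G) ∈ D → π c' * π d' = π d' * π c' := by
    intro c' d' hc' hd'
    have h1 := hcore (h.local_core MM_ne_top hc' hd' c'.2 d'.2)
    have h2 : π (c'⁻¹ * d'⁻¹ * c' * d') = 1 := (QuotientGroup.eq_one_iff _).2 h1
    rw [map_mul, map_mul, map_mul, map_inv, map_inv] at h2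
    exact (H533.Wf.commute_of_eq_one h2).eq
  -- Sylow subgroups of order 3
  have hor : ∀ {x : MM}, x ∉ QQ → orderOf x = 3 → orderOf (π x) = 3 := by
    intro x hx hx3
    refine orderOf_eq_prime (by rw [← map_pow, ← hx3, pow_orderOf_eq_one, map_one]) ?_
    intro h1
    exact hx ((QuotientGroup.eq_one_iff _).1 h1)
  have hfac : (Nat.card (MM ⧸ QQ)).factorization 3 = 1 := fac_index
  obtain ⟨g, hg⟩ := three_subgroup hfac (hor hcQ hc3) (hor hdQ hd3)
  obtain ⟨g, rfl⟩ := QuotientGroup.mk'_surjective QQ g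
  obtain ⟨k, hk⟩ := mem_zpowers_iff.1 hg
  have hC' : ∀ m : MM, ((m * c * m⁻¹ : MM) : G) ∈ C := fun m => h.conjC (m : G) _ hc
  have hBS := Cfsg.Agent.Involutions.BaerSuzuki.baer_suzuki_element (p := 3) (π c) (fun y => by
    obtain ⟨m, rfl⟩ := QuotientGroup.mk'_surjective QQ y
    -- the conjugates commute
    have h1 : Commute (π (m * c * m⁻¹)) (π d) := hcomm _ _ (hC' m) hd
    have h2 : ∀ m : MM, Commute (π (m * c * m⁻¹)) (π (g * c * g⁻¹)) := by
      intro m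
      have h3 : Commute (π (m * c * m⁻¹)) (π d) := hcomm _ _ (hC' m) hd
      have h4 := h3.zpow_right k
      rw [hk] at h4
      rw [map_mul π, map_mul π, map_inv π]
      rw [map_mul π, map_mul π, map_inv π] at h4 ⊢
      exact h4
    have h3 : Commute (π c) (π m * π c * (π m)⁻¹) := by
      have h4 := h2 (g * m)
      have h5 := h2 g
      have h6 : Commute (π ((g * m⁻¹) * c * (g * m⁻¹)⁻¹)) (π (g * c * g⁻¹)) := h2 (g * m⁻¹)
      have h7 := congrArg (fun y => π (m * g⁻¹) * y * (π (m * g⁻¹))⁻¹) h6.eq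
      simp only [← map_mul, ← map_inv] at h7
      have e1 : m * g⁻¹ * (g * m⁻¹ * c * (g * m⁻¹)⁻¹ * (g * c * g⁻¹)) * (m * g⁻¹)⁻¹ = c * (m * c * m⁻¹) := by group
      have e2 : m * g⁻¹ * (g * c * g⁻¹ * (g * m⁻¹ * c * (g * m⁻¹)⁻¹)) * (m * g⁻¹)⁻¹ = m * c * m⁻¹ * c := by group
      rw [e1, e2] at h7
      rw [← map_inv, ← map_mul, ← map_mul]
      show π c * π (m * c * m⁻¹) = π (m * c * m⁻¹) * π c
      rw [← map_mul, ← map_mul]
      exact h7
    have h4 : IsPGroup 3 ↥(closure ({π c, π m * π c * (π m)⁻¹} : Set (MM ⧸ QQ))) := by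
      have hab : ∀ x ∈ ({π c, π m * π c * (π m)⁻¹} : Set (MM ⧸ QQ)), ∀ y ∈ ({π c, π m * π c * (π m)⁻¹} : Set (MM ⧸ QQ)),
          x * y = y * x := by
        intro x hx y hy
        rcases hx with rfl | rfl <;> rcases hy with rfl | rfl
        · rfl
        · exact h3.eq
        · exact h3.eq.symm
        · rfl
      have hcub : ∀ x ∈ closure ({π c, π m * π c * (π m)⁻¹} : Set (MM ⧸ QQ)), x ^ 3 = 1 := by
        intro x hx
        have hmc : IsMulCommutative ↥(closure ({π c, π m * π c * (π m)⁻¹} : Set (MM ⧸ QQ))) :=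
          isMulCommutative_closure hab
        induction hx using Subgroup.closure_induction with
        | mem x hx =>
          have hc3' : (π c) ^ 3 = 1 := by rw [← map_pow, ← hc3, pow_orderOf_eq_one, map_one]
          rcases hx with rfl | rfl
          · exact hc3'
          · rw [conj_pow, hc3']; group
        | one => exact one_pow 3
        | mul x y hx hy ihx ihy =>
          have h5 : Commute x y := congrArg Subtype.val (hmc.is_comm.comm ⟨x, hx⟩ ⟨y, hy⟩)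
          rw [h5.mul_pow, ihx, ihy, one_mul]
        | inv x hx ihx => rw [inv_pow, ihx, inv_one]
      intro x
      exact ⟨1, Subtype.ext (by rw [pow_one]; exact hcub x x.2)⟩
    exact h4)
  have hbot := core_quot hBS
  have h1 : π c ∈ normalClosure {π c} := subset_normalClosure rfl
  rw [hbot, mem_bot] at h1
  exact hcQ ((QuotientGroup.eq_one_iff _).1 h1)

universe u

/-- **the row HN of S3826, `p = 3`** -/
theorem arow_hn (K : Type u) [Group K] [Finite K] (h : Spor.IsoHN K) : H533.Wf.ARow 3 K := by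
  obtain ⟨e⟩ := h
  refine H533.Wf.ARow.of_inner ?_ (irow_congr e.symm irow)
  intro a ha
  have h1 : CpAut.AutInner 3 K := (CpAutHN.Main.autInner 3 Nat.prime_three (by norm_num)).congr e.symm
  obtain ⟨g, hg⟩ := h1 a ha
  exact ⟨g, hg.symm⟩

end Cfsg.Agent.H800.Wf.HN
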