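import Cfsg.Agent.H800.Wf.Orb
import Cfsg.Agent.H755.CC.HNThree
import Cfsg.Agent.H569.HNThree
import Cfsg.Agent.H555.Hall.HNThree

/-!
# `C(X3)` in HN (helper800, for S3826)

`MM = C(X3)` (H569), `Q = O(MM)`: `YA ∉ Q`, the 3-elements of `Q` commuting with `S3` are powers of `X3`, all involutions of `MM`
are conjugate.
-/

set_option autoImplicit false
set_option maxRecDepth 100000

namespace Cfsg.Agent.H800.Wf.HNMid

open Subgroup Cfsg
open Cfsg.Agent
open Cfsg.Agent.HN.XWords (W0 W0_sq)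
open Cfsg.Agent.KFacts.HN (PP mem_PP ρ φA φB W0_ne A5 comm_AB φB_inj φA_inj ρ_surj card_PP LL mem_LL φ2_inj)
open Cfsg.Agent.CpAutHN.LqFacts
open Cfsg.Agent.CpAutHN.PPFacts
open Cfsg.Agent.CpAutHN.Alt
open Cfsg.Agent.CpAutHN.Tr
open Cfsg.Agent.CpAutHN.Pairs
open Cfsg.Agent.H569.HNThree
open Equiv.Perm (mem_alternatingGroup)

/-- the core of `C(X3)` -/
noncomputable abbrev QQ : Subgroup MM := pPrimeCore 2 MM

instance normal_QQ : QQ.Normal := Lib.Cores.pPrimeCore_normal 2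

theorem odd_QQ : Odd (Nat.card QQ) := H569.KleinIso.odd_core

theorem odd_of_mem {q : MM} (hq : q ∈ QQ) : Odd (orderOf q) := by
  have h2 : orderOf (⟨q, hq⟩ : QQ) ∣ Nat.card QQ := orderOf_dvd_natCard _
  rw [← Subgroup.orderOf_coe] at h2
  exact Odd.of_dvd_nat odd_QQ h2

/-- `X3` in its centralizer -/
noncomputable def XX : MM := ⟨X3, mem_centralizer_singleton_iff.2 rfl⟩

theorem order_XX : orderOf XX = 3 := by rw [← Subgroup.orderOf_coe]; exact order_X3

theorem comm_XX (m : MM) : m * XX = XX * m := Subtype.ext (mem_centralizer_singleton_iff.1 m.2)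

theorem ya_comm : ya * x3 = x3 * ya := by decide +kernel

/-- `YA` in `C(X3)` -/
noncomputable def yy : MM := mk ya ya_mem ya_comm

theorem coe_yy : (yy : G) = YA := rfl

theorem order_yy : orderOf yy = 3 := by rw [← Subgroup.orderOf_coe]; exact order_YA

/-- `(4 1 2)` -/
def f0p : Equiv.Perm (Fin 5) := ([4, 1, 2] : List (Fin 5)).formPerm
theorem f0p_mem : f0p ∈ alternatingGroup (Fin 5) := by rw [mem_alternatingGroup]; decide +kernel
/-- `(4 1 2)` -/
def f0 : A5 := ⟨f0p, f0p_mem⟩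
theorem chk1 : (c0 * (f0 * c0 * f0⁻¹)) ^ 2 = 1 := Subtype.ext (by decide +kernel)
theorem chk2 : c0 * (f0 * c0 * f0⁻¹) ≠ 1 := fun h => absurd (congrArg Subtype.val h) (by decide +kernel)

/-- elements of order 3 of `A5` -/
theorem exists_f {b : A5} (h3 : b ^ 3 = 1) (h1 : b ≠ 1) : ∃ f : A5, (b * (f * b * f⁻¹)) ^ 2 = 1 ∧ b * (f * b * f⁻¹) ≠ 1 := by
  obtain ⟨h, hh⟩ := conj_c0 h3 h1
  refine ⟨h⁻¹ * f0 * h, ?_⟩
  have h2 : b * (h⁻¹ * f0 * h * b * (h⁻¹ * f0 * h)⁻¹) = h⁻¹ * (c0 * (f0 * c0 * f0⁻¹)) * h := by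
    rw [← hh]; group
  rw [h2]
  constructor
  · have h4 := conj_pow (a := h⁻¹) (b := c0 * (f0 * c0 * f0⁻¹)) (i := 2)
    rw [inv_inv] at h4
    rw [h4, chk1]; group
  · intro h4
    apply chk2
    calc c0 * (f0 * c0 * f0⁻¹) = h * (h⁻¹ * (c0 * (f0 * c0 * f0⁻¹)) * h) * h⁻¹ := by group
      _ = 1 := by rw [h4]; group

theorem ya_ne (i : ℕ) (hi : i < 3) : ya ≠ x3 ^ i := by
  interval_cases i <;> decide +kernel

/-- **`YA` is not in the core** -/
theorem yy_not_mem : yy ∉ QQ := by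
  intro hmem
  obtain ⟨g, hg, hs, hρ⟩ := t1_x3
  have hyP : g * YA * g⁻¹ ∈ PP := by
    rw [mem_PP, ← hs]
    calc g * YA * g⁻¹ * (g * S3 * g⁻¹) = g * (YA * S3) * g⁻¹ := by group
      _ = g * (S3 * YA) * g⁻¹ := by rw [comm_SY]
      _ = _ := by group
  set x' : PP := ⟨g * X3 * g⁻¹, hg⟩ with hx'
  set y' : PP := ⟨g * YA * g⁻¹, hyP⟩ with hy'
  have hx3 : orderOf x' = 3 := order_sub hg (order_conj order_X3 g)
  have hy3 : orderOf y' = 3 := order_sub hyP (order_conj order_YA g)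
  have hxy : y' * x' = x' * y' := by
    apply Subtype.ext
    change g * YA * g⁻¹ * (g * X3 * g⁻¹) = g * X3 * g⁻¹ * (g * YA * g⁻¹)
    calc g * YA * g⁻¹ * (g * X3 * g⁻¹) = g * (YA * X3) * g⁻¹ := by group
      _ = g * (X3 * YA) * g⁻¹ := by rw [comm_YX]
      _ = _ := by group
  have hc : ρ y' * φA c0 = φA c0 * ρ y' := by rw [← hρ, ← map_mul, hxy, map_mul]
  obtain ⟨a, b, hab⟩ := mem_LL.1 (mem_LL_of_comm c0_ne hc)
  have hpow : ∀ n : ℕ, ρ y' ^ n = φA (a ^ n) * φB (b ^ n) := by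
    intro n
    rw [← hab, (show Commute (φA a) (φB b) from comm_AB a b).mul_pow, map_pow, map_pow]
  have h3 : a ^ 3 = 1 ∧ b ^ 3 = 1 := by
    apply φ2_inj
    rw [← hpow, ← map_pow, ← hy3, pow_orderOf_eq_one, map_one, map_one, map_one, one_mul]
  have hac : a * c0 = c0 * a := by
    have h1 := conj_A a b c0
    rw [hab, hc, mul_inv_cancel_right] at h1
    exact (mul_inv_eq_iff_eq_mul.1 (φA_inj h1).symm)
  by_cases hb1 : b = 1
  · -- `YA` is a power of `X3`
    obtain ⟨i, hi, hai⟩ : ∃ i < 3, a = c0 ^ i := by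
      rcases cent_c0 hac with h | h | h
      · exact ⟨0, by norm_num, by rw [h, pow_zero]⟩
      · exact ⟨1, by norm_num, by rw [h, pow_one]⟩
      · exact ⟨2, by norm_num, by rw [h, pow_two]⟩
    have hk : y' * (x' ^ i)⁻¹ ∈ ρ.ker := by
      rw [MonoidHom.mem_ker, map_mul, map_inv, map_pow, hρ, ← map_pow, ← hai, ← hab, hb1, map_one, mul_one,
        mul_inv_cancel]
    have hk3 : (y' * (x' ^ i)⁻¹) ^ 3 = 1 := by
      have hcm : Commute y' (x' ^ i)⁻¹ := ((show Commute y' x' from hxy).pow_right i).inv_right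
      rw [hcm.mul_pow, inv_pow, ← pow_mul, mul_comm i 3, pow_mul, ← hx3, pow_orderOf_eq_one, hx3, ← hy3,
        pow_orderOf_eq_one, one_pow, inv_one, mul_one]
    have hk1 : y' * (x' ^ i)⁻¹ = 1 := by
      obtain ⟨m, hm⟩ := isPGroup_ker ⟨_, hk⟩
      have hm' : (y' * (x' ^ i)⁻¹) ^ 2 ^ m = 1 := congrArg Subtype.val hm
      have h4 := orderOf_dvd_of_pow_eq_one hk3
      have h5 := orderOf_dvd_of_pow_eq_one hm'
      have h6 : Nat.Coprime 3 (2 ^ m) := Nat.Coprime.pow_right m (by norm_num)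
      exact orderOf_eq_one_iff.1 (Nat.eq_one_of_dvd_coprimes h6 h4 h5)
    have hk2 : y' = x' ^ i := mul_inv_eq_one.1 hk1
    have h4 : g * YA * g⁻¹ = g * X3 ^ i * g⁻¹ := by
      have h5 := congrArg Subtype.val hk2
      rw [Subgroup.coe_pow] at h5
      change g * YA * g⁻¹ = (g * X3 * g⁻¹) ^ i at h5
      rw [h5, conj_pow]
    have h5 : YA = X3 ^ i := mul_left_cancel (mul_right_cancel h4)
    have h6 : Φ ⟨ya, ya_mem⟩ = Φ (⟨x3, x3_mem⟩ ^ i) := by rw [map_pow]; exact h5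
    exact ya_ne i hi (congrArg Subtype.val (Φ_inj h6))
  · obtain ⟨F, hF2, hF1⟩ := exists_f h3.2 hb1
    obtain ⟨v, hv⟩ := ρ_surj (φB F)
    have hcv : ρ v * ρ x' = ρ x' * ρ v := by rw [hv, hρ]; exact (comm_AB c0 F).symm
    obtain ⟨q, hq, hqv⟩ := CpAutTh.RankOne.exists_comm Nat.prime_two Nat.prime_three (by norm_num) ρ isPGroup_ker hx3 hcv
    have hρv : ρ (q * v) = φB F := by rw [map_mul, MonoidHom.mem_ker.1 hq, one_mul, hv]
    generalize hw : q * v = w at hqv hρv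
    -- the element of `MM`
    have hm : g⁻¹ * (w : G) * g ∈ MM := by
      rw [mem_centralizer_singleton_iff]
      have h5 : (w : G) * (g * X3 * g⁻¹) = g * X3 * g⁻¹ * (w : G) := congrArg Subtype.val hqv
      calc g⁻¹ * (w : G) * g * X3 = g⁻¹ * ((w : G) * (g * X3 * g⁻¹)) * g := by group
        _ = g⁻¹ * (g * X3 * g⁻¹ * (w : G)) * g := by rw [h5]
        _ = _ := by group
    have h4 : yy * (⟨_, hm⟩ * yy * (⟨_, hm⟩ : MM)⁻¹) ∈ QQ := QQ.mul_mem hmem (normal_QQ.conj_mem _ hmem _)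
    obtain ⟨k, hk⟩ := odd_of_mem h4
    have h5 : (y' * (w * y' * w⁻¹)) ^ (2 * k + 1) = 1 := by
      have h6 : (yy * (⟨_, hm⟩ * yy * (⟨_, hm⟩ : MM)⁻¹)) ^ (2 * k + 1) = 1 := by rw [← hk, pow_orderOf_eq_one]
      have h7 : (YA * ((g⁻¹ * (w : G) * g) * YA * (g⁻¹ * (w : G) * g)⁻¹)) ^ (2 * k + 1) = 1 := congrArg Subtype.val h6
      apply Subtype.ext
      rw [Subgroup.coe_pow]
      change (g * YA * g⁻¹ * ((w : G) * (g * YA * g⁻¹) * (w : G)⁻¹)) ^ (2 * k + 1) = 1
      have h8 : g * YA * g⁻¹ * ((w : G) * (g * YA * g⁻¹) * (w : G)⁻¹) =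
          g * (YA * ((g⁻¹ * (w : G) * g) * YA * (g⁻¹ * (w : G) * g)⁻¹)) * g⁻¹ := by group
      rw [h8, conj_pow, h7]
      group
    have h6 : ρ (y' * (w * y' * w⁻¹)) = φA (a * a) * φB (b * (F * b * F⁻¹)) := by
      rw [map_mul, map_mul, map_mul, map_inv, hρv, ← hab, map_mul, map_mul, map_mul, map_mul, map_inv]
      have e1 := comm_AB a F
      have e2 := comm_AB a b
      calc φA a * φB b * (φB F * (φA a * φB b) * (φB F)⁻¹) = φA a * φB b * ((φB F * φA a) * φB b * (φB F)⁻¹) := by group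
        _ = φA a * (φB b * φA a) * φB F * φB b * (φB F)⁻¹ := by rw [← e1]; group
        _ = _ := by rw [← e2]; group
    have h7 : φA ((a * a) ^ (2 * k + 1)) * φB ((b * (F * b * F⁻¹)) ^ (2 * k + 1)) = φA 1 * φB 1 := by
      rw [map_pow, map_pow, ← (show Commute (φA (a * a)) (φB (b * (F * b * F⁻¹))) from comm_AB _ _).mul_pow, ← h6,
        ← map_pow, h5, map_one, map_one, map_one, one_mul]
    have h8 := (φ2_inj h7).2
    rw [pow_succ, pow_mul, hF2, one_pow, one_mul] at h8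
    exact hF1 h8

/-! ### the 3-elements of the core commuting with `S3` -/

theorem three_dvd_index : 3 ∣ QQ.index := by
  have h1 : (QuotientGroup.mk yy : MM ⧸ QQ) ^ 3 = 1 := by
    rw [← QuotientGroup.mk_pow, ← order_yy, pow_orderOf_eq_one, QuotientGroup.mk_one]
  have h2 : orderOf (QuotientGroup.mk yy : MM ⧸ QQ) = 3 := by
    have : Fact (Nat.Prime 3) := ⟨Nat.prime_three⟩
    refine orderOf_eq_prime h1 ?_
    intro h
    exact yy_not_mem ((QuotientGroup.eq_one_iff _).1 h)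
  rw [← h2]
  exact orderOf_dvd_natCard _

/-- the centralizer of `ss` -/
noncomputable abbrev CC : Subgroup MM := centralizer ({ss} : Set MM)

theorem card_CC_dvd : Nat.card CC ∣ 3686400 := by
  rw [← card_cent_S3]
  let f : CC →* ↥(centralizer ({S3} : Set G)) :=
    { toFun := fun c => ⟨((c : MM) : G), mem_centralizer_singleton_iff.2
        (congrArg Subtype.val (mem_centralizer_singleton_iff.1 c.2))⟩
      map_one' := rfl
      map_mul' := fun _ _ => rfl }
  refine card_dvd_of_injective f ?_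
  intro a b hab
  exact Subtype.ext (Subtype.ext (congrArg (fun w : ↥(centralizer ({S3} : Set G)) => (w : G)) hab))

theorem card_CC : Nat.card ↥(QQ ⊓ CC) * QQ.index = Nat.card CC := by
  have h1 := H569.KleinIso.core_sup order_ss comm_core
  have h2 : QQ.relIndex (CC ⊔ QQ) = QQ.relIndex CC := relIndex_sup_right _ _
  rw [sup_comm, h1, relIndex_top_right] at h2
  have h3 := relIndex_mul_relIndex ⊥ (QQ ⊓ CC) CC bot_le inf_le_right
  rw [relIndex_bot_left, relIndex_bot_left, inf_relIndex_right, ← h2] at h3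
  exact h3

theorem XX_mem : XX ∈ QQ ⊓ CC := by
  refine ⟨?_, mem_centralizer_singleton_iff.2 (comm_XX ss).symm⟩
  have hn : (zpowers XX).Normal := ⟨by
    rintro _ ⟨k, rfl⟩ g
    change g * XX ^ k * g⁻¹ ∈ zpowers XX
    have h1 : g * XX ^ k = XX ^ k * g := ((show Commute g XX from comm_XX g).zpow_right k).eq
    rw [h1, mul_inv_cancel_right]
    exact ⟨k, rfl⟩⟩
  refine Lib.Cores.le_pPrimeCore (p := 2) hn ?_ (mem_zpowers XX)
  rw [Nat.card_zpowers, order_XX]
  norm_num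

instance normal_Z : (zpowers XX).Normal := ⟨by
  rintro _ ⟨k, rfl⟩ g
  change g * XX ^ k * g⁻¹ ∈ zpowers XX
  have h1 : g * XX ^ k = XX ^ k * g := ((show Commute g XX from comm_XX g).zpow_right k).eq
  rw [h1, mul_inv_cancel_right]
  exact ⟨k, rfl⟩⟩

/-- **3-elements of the core commuting with `S3`** -/
theorem mem_Z {t : MM} (ht : t ∈ QQ) (h3 : ∃ k, t ^ 3 ^ k = 1) (hts : t * ss = ss * t) : t ∈ zpowers XX := by
  have : Fact (Nat.Prime 3) := ⟨Nat.prime_three⟩
  by_contra hno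
  obtain ⟨k, hk⟩ := h3
  have hp1 : IsPGroup 3 (zpowers t) := by
    rw [IsPGroup.iff_card, Nat.card_zpowers]
    obtain ⟨j, -, hj⟩ := (Nat.dvd_prime_pow Nat.prime_three).1 (orderOf_dvd_of_pow_eq_one hk)
    exact ⟨j, hj⟩
  have hp2 : IsPGroup 3 (zpowers XX) := IsPGroup.of_card (n := 1) (by rw [Nat.card_zpowers, order_XX, pow_one])
  have hJ := hp1.to_sup_of_normal_right hp2
  obtain ⟨n, hn⟩ := IsPGroup.iff_card.1 hJ
  have hle : zpowers t ⊔ zpowers XX ≤ QQ ⊓ CC := by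
    refine sup_le (zpowers_le.2 ⟨ht, mem_centralizer_singleton_iff.2 hts⟩) (zpowers_le.2 XX_mem)
  have hlt : Nat.card (zpowers XX) < Nat.card ↥(zpowers t ⊔ zpowers XX) := by
    refine lt_of_le_of_ne (Nat.le_of_dvd Nat.card_pos (card_dvd_of_le le_sup_right)) ?_
    intro h
    apply hno
    have h5 : zpowers XX = zpowers t ⊔ zpowers XX := Subgroup.eq_of_le_of_card_ge le_sup_right h.ge
    rw [h5]
    exact mem_sup_left (mem_zpowers t)
  rw [Nat.card_zpowers, order_XX, hn] at hlt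
  have hn2 : 2 ≤ n := by
    by_contra h
    have h5 : 3 ^ n ≤ 3 ^ 1 := Nat.pow_le_pow_right (by norm_num) (by omega)
    omega
  have h9 : 9 ∣ Nat.card ↥(QQ ⊓ CC) := by
    refine dvd_trans ?_ (card_dvd_of_le hle)
    rw [hn, show (9 : ℕ) = 3 ^ 2 by norm_num]
    exact pow_dvd_pow 3 hn2
  have h27 : 9 * 3 ∣ Nat.card CC := by
    rw [← card_CC]
    exact Nat.mul_dvd_mul h9 three_dvd_index
  have h28 := h27.trans card_CC_dvd
  norm_num at h28

/-! ### involutions -/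

theorem conj_or_comm {X : Type*} [Group X] [Finite X] {i s : X} (hi : i * i = 1) (hs : s * s = 1) :
    (∃ g : X, g * s * g⁻¹ = i) ∨ ∃ z : X, orderOf z = 2 ∧ z * i = i * z ∧ z * s = s * z := by
  have hi' : i⁻¹ = i := inv_eq_of_mul_eq_one_left hi
  have hs' : s⁻¹ = s := inv_eq_of_mul_eq_one_left hs
  have hinv : ∀ k : ℕ, s * (i * s) ^ k * s = ((i * s) ^ k)⁻¹ := by
    intro k
    have h1 : s * (i * s) * s⁻¹ = (i * s)⁻¹ := by
      rw [hs', mul_inv_rev, hi', hs']
      calc s * (i * s) * s = s * i * (s * s) := by group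
        _ = s * i := by rw [hs, mul_one]
    have h2 : s * (i * s) ^ k * s⁻¹ = ((i * s)⁻¹) ^ k := by rw [← h1, conj_pow]
    rw [hs', inv_pow] at h2
    exact h2
  rcases Nat.even_or_odd (orderOf (i * s)) with ⟨k, hk⟩ | ⟨k, hk⟩
  · right
    have hpos : 0 < orderOf (i * s) := orderOf_pos _
    have h1 : (i * s) ^ k * (i * s) ^ k = 1 := by rw [← pow_add, ← hk, pow_orderOf_eq_one]
    have h2 : (i * s) ^ k ≠ 1 := pow_ne_one_of_lt_orderOf (by omega) (by omega)
    have h3 : (i * s) ^ k * s = s * (i * s) ^ k := by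
      have h4 := hinv k
      have h5 : ((i * s) ^ k)⁻¹ = (i * s) ^ k := inv_eq_of_mul_eq_one_left h1
      rw [h5] at h4
      calc (i * s) ^ k * s = s * (i * s) ^ k * s * s := by rw [h4]
        _ = s * (i * s) ^ k * (s * s) := by group
        _ = _ := by rw [hs, mul_one]
    have h4 : (i * s) ^ k * (i * s) = (i * s) * (i * s) ^ k := by rw [← pow_succ, pow_succ']
    refine ⟨(i * s) ^ k, orderOf_eq_prime (by rw [pow_two]; exact h1) h2, ?_, h3⟩
    calc (i * s) ^ k * i = (i * s) ^ k * (i * s) * s := by rw [mul_assoc, mul_assoc i, hs, mul_one]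
      _ = i * s * ((i * s) ^ k * s) := by rw [h4, mul_assoc]
      _ = i * (s * s) * (i * s) ^ k := by rw [h3]; group
      _ = _ := by rw [hs, mul_one]
  · left
    refine ⟨(i * s) ^ (k + 1), ?_⟩
    have h1 := hinv (k + 1)
    calc (i * s) ^ (k + 1) * s * ((i * s) ^ (k + 1))⁻¹ = (i * s) ^ (k + 1) * s * (s * (i * s) ^ (k + 1) * s) := by rw [h1]
      _ = (i * s) ^ (k + 1) * (s * s) * (i * s) ^ (k + 1) * s := by group
      _ = (i * s) ^ (orderOf (i * s)) * (i * s) * s := by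
        rw [hs, mul_one, ← pow_add, ← pow_succ, hk]
        congr 2
        omega
      _ = i := by rw [pow_orderOf_eq_one, one_mul, mul_assoc, hs, mul_one]

/-- the involutions of `C(X3)` are conjugate -/
theorem conj_ss {i : MM} (hi : orderOf i = 2) : ∃ m : MM, m * ss * m⁻¹ = i := by
  have hii : i * i = 1 := by rw [← pow_two, ← hi, pow_orderOf_eq_one]
  have hss : ss * ss = 1 := by rw [← pow_two, ← order_ss, pow_orderOf_eq_one]
  have huniq : ∀ z : MM, orderOf z = 2 → z * ss = ss * z → z = ss := fun z hz hzs => Subtype.ext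
    (t1_x3.unique (by rw [Subgroup.orderOf_coe]; exact hz) (mem_centralizer_singleton_iff.1 z.2) (congrArg Subtype.val hzs))
  rcases conj_or_comm hii hss with ⟨g, hg⟩ | ⟨z, hz, hzi, hzs⟩
  · exact ⟨g, hg⟩
  · have h1 := huniq z hz hzs
    rw [h1] at hzi
    have h2 := huniq i hi hzi.symm
    exact ⟨1, by rw [h2]; group⟩

/-- **3-elements of the core commuting with an involution** -/
theorem mem_Z' {t i : MM} (ht : t ∈ QQ) (h3 : ∃ k, t ^ 3 ^ k = 1) (hi : orderOf i = 2) (hti : i * t = t * i) :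
    t ∈ zpowers XX := by
  obtain ⟨m, rfl⟩ := conj_ss hi
  have h1 : m⁻¹ * t * m ∈ zpowers XX := by
    refine mem_Z ?_ ?_ ?_
    · have := normal_QQ.conj_mem t ht m⁻¹
      rwa [inv_inv] at this
    · obtain ⟨k, hk⟩ := h3
      refine ⟨k, ?_⟩
      have h4 := conj_pow (a := m⁻¹) (b := t) (i := 3 ^ k)
      rw [inv_inv] at h4
      rw [h4, hk]
      group
    · calc m⁻¹ * t * m * ss = m⁻¹ * (t * (m * ss * m⁻¹)) * m := by group
        _ = m⁻¹ * (m * ss * m⁻¹ * t) * m := by rw [hti]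
        _ = _ := by group
  have h2 := normal_Z.conj_mem _ h1 m
  have h4 : m * (m⁻¹ * t * m) * m⁻¹ = t := by group
  rwa [h4] at h2

/-! ### orders -/

theorem fac_eq {n m : ℕ} (p k : ℕ) (hp : p.Prime) (h : n = p ^ k * m) (hm : ¬ p ∣ m) (hn : n ≠ 0) : n.factorization p = k := by
  have hm0 : m ≠ 0 := by rintro rfl; exact hn (by rw [h, mul_zero])
  rw [h, Nat.factorization_mul (pow_ne_zero _ hp.ne_zero) hm0, Finsupp.add_apply, hp.factorization_pow,
    Finsupp.single_eq_same, Nat.factorization_eq_zero_of_not_dvd hm, add_zero]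

theorem fac_MM : (Nat.card MM).factorization 3 = 6 := by
  have h1 := MM.card_mul_index
  rw [card_G] at h1
  have h0 : Nat.card MM ≠ 0 := Nat.card_pos.ne'
  have hi0 : MM.index ≠ 0 := by
    intro h
    rw [h, mul_zero] at h1
    exact absurd h1 (by norm_num)
  have h2 : (Nat.card MM * MM.index).factorization 3 = 6 :=
    fac_eq 3 6 Nat.prime_three (m := 374528000000) (by rw [h1]; norm_num) (by norm_num) (by rw [h1]; norm_num)
  rw [Nat.factorization_mul h0 hi0, Finsupp.add_apply, Nat.factorization_eq_zero_of_not_dvd index_X3, add_zero] at h2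
  exact h2

theorem fac_index : QQ.index.factorization 3 = 1 := by
  have h3 : 3 ∣ Nat.card ↥(QQ ⊓ CC) := by
    have h1 : orderOf (⟨XX, XX_mem⟩ : ↥(QQ ⊓ CC)) ∣ _ := orderOf_dvd_natCard _
    rwa [← Subgroup.orderOf_coe, order_XX] at h1
  obtain ⟨k, hk⟩ := three_dvd_index
  have h9 : ¬ 3 ∣ k := by
    rintro ⟨j, rfl⟩
    obtain ⟨l, hl⟩ := h3
    have h1 := card_CC_dvd
    rw [← card_CC, hk, hl] at h1
    have h2 : 27 ∣ 3 * l * (3 * (3 * j)) := ⟨l * j, by ring⟩
    have h4 := h2.trans h1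
    norm_num at h4
  refine fac_eq 3 1 Nat.prime_three (m := k) (by rw [hk, pow_one]) h9 ?_
  intro h
  have h1 := QQ.card_mul_index
  rw [h, mul_zero] at h1
  exact Nat.card_pos.ne h1

theorem fac_QQ : (Nat.card QQ).factorization 3 = 5 := by
  have h1 := QQ.card_mul_index
  have h0 : Nat.card QQ ≠ 0 := Nat.card_pos.ne'
  have hi0 : QQ.index ≠ 0 := by
    intro h
    rw [h, mul_zero] at h1
    exact Nat.card_pos.ne h1
  have h2 := fac_MM
  rw [← h1, Nat.factorization_mul h0 hi0, Finsupp.add_apply, fac_index] at h2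
  omega

end Cfsg.Agent.H800.Wf.HNMid
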